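import Mathlib
import Cfsg.Agent.Helper14.AutTvGroups

set_option autoImplicit false
set_option linter.unusedSectionVars false

/-!
# Minimal index of proper subgroups of `SL_n(q)` (S2140): basic definitions

Built on helper14's transvection library (`Cfsg.Agent.Helper14.AutPSL`): `tv a φ h = 1 + a φᵀ`,
`Qc a` = all transvections with centre `a`, `Qa φ` = all transvections with axis `ker φ`.

New here: `Qc2 x y` (centre `x`, axis containing `y`), `Lx x` (the subgroup generated by the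
transvections fixing `x`).
-/

namespace Cfsg.Agent.Helper1.MinDeg

open Matrix Cfsg.Agent.Helper14.AutPSL

variable {F : Type*} [Field F] {n : ℕ}

/-- transvections with centre `x` whose axis contains `y` -/
def Qc2 (x y : Fin n → F) : Subgroup (SpecialLinearGroup (Fin n) F) where
  carrier := {g | ∃ (φ : Fin n → F) (h : φ ⬝ᵥ x = 0), φ ⬝ᵥ y = 0 ∧ g = tv x φ h}
  one_mem' := ⟨0, zero_dotProduct x, zero_dotProduct y, (tv_zero_right x).symm⟩
  mul_mem' := by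
    rintro _ _ ⟨φ, h, hy, rfl⟩ ⟨ψ, h', hy', rfl⟩
    exact ⟨φ + ψ, _, by rw [add_dotProduct, hy, hy', add_zero], tv_mul_center x φ ψ h h'⟩
  inv_mem' := by
    rintro _ ⟨φ, h, hy, rfl⟩
    exact ⟨-φ, _, by rw [neg_dotProduct, hy, neg_zero], tv_inv x φ h⟩

theorem mem_Qc2 {x y : Fin n → F} {g : SpecialLinearGroup (Fin n) F} :
    g ∈ Qc2 x y ↔ ∃ (φ : Fin n → F) (h : φ ⬝ᵥ x = 0), φ ⬝ᵥ y = 0 ∧ g = tv x φ h := Iff.rfl

theorem Qc2_le_Qc (x y : Fin n → F) : Qc2 x y ≤ Qc x := by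
  rintro _ ⟨φ, h, -, rfl⟩
  exact ⟨φ, h, rfl⟩

/-- for a nonzero centre, membership of `tv x φ` in `Qc2 x y` is decided by `φ ⬝ᵥ y` -/
theorem tv_mem_Qc2_iff {x y φ : Fin n → F} (hx : x ≠ 0) (h : φ ⬝ᵥ x = 0) :
    tv x φ h ∈ Qc2 x y ↔ φ ⬝ᵥ y = 0 := by
  constructor
  · rintro ⟨ψ, h', hy, he⟩
    by_cases hφ : φ = 0
    · rw [hφ, zero_dotProduct]
    · obtain ⟨c, -, hc1, hc2⟩ := tv_eq_tv h h' hx hφ he
      -- `x = c • x` and `φ = c • ψ`
      rw [hc2, smul_dotProduct, hy, smul_zero]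
  · intro hy
    exact ⟨φ, h, hy, rfl⟩

/-- the subgroup generated by the transvections fixing `x` -/
def Lx (x : Fin n → F) : Subgroup (SpecialLinearGroup (Fin n) F) :=
  Subgroup.closure {g | ∃ (y χ : Fin n → F) (h : χ ⬝ᵥ y = 0), χ ⬝ᵥ x = 0 ∧ g = tv y χ h}

theorem tv_mem_Lx {x y χ : Fin n → F} (h : χ ⬝ᵥ y = 0) (hx : χ ⬝ᵥ x = 0) : tv y χ h ∈ Lx x :=
  Subgroup.subset_closure ⟨y, χ, h, hx, rfl⟩

/-- elements of `Lx x` fix `x` -/
theorem Lx_mulVec {x : Fin n → F} {g : SpecialLinearGroup (Fin n) F} (hg : g ∈ Lx x) :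
    g.1 *ᵥ x = x := by
  induction hg using Subgroup.closure_induction with
  | mem g hg =>
    obtain ⟨y, χ, h, hx, rfl⟩ := hg
    rw [tv_mulVec, hx, zero_smul, add_zero]
  | one => exact one_mulVec x
  | mul a b _ _ ha hb =>
    have : (a * b).1 = a.1 * b.1 := rfl
    rw [this, ← mulVec_mulVec, hb, ha]
  | inv a _ ha =>
    have h1 : (a⁻¹ * a).1 *ᵥ x = x := by
      rw [inv_mul_cancel]; exact one_mulVec x
    have h2 : (a⁻¹ * a).1 = (a⁻¹).1 * a.1 := rfl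
    rw [h2, ← mulVec_mulVec, ha] at h1
    exact h1

/-- an element fixing `x` normalises `Qc x` -/
theorem conj_mem_Qc_of_fix {x : Fin n → F} {g : SpecialLinearGroup (Fin n) F}
    (hg : g.1 *ᵥ x = x) {u : SpecialLinearGroup (Fin n) F} (hu : u ∈ Qc x) :
    g * u * g⁻¹ ∈ Qc x := by
  have := conj_mem_Qc hu g
  rwa [hg] at this

theorem Qc_comm {x : Fin n → F} {a b : SpecialLinearGroup (Fin n) F} (ha : a ∈ Qc x)
    (hb : b ∈ Qc x) : a * b = b * a := by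
  obtain ⟨φ, h, rfl⟩ := ha
  obtain ⟨ψ, h', rfl⟩ := hb
  rw [tv_mul_center, tv_mul_center]
  exact tv_congr _ rfl (add_comm φ ψ)

end Cfsg.Agent.Helper1.MinDeg
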