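import Mathlib
import Cfsg.Agent.Helper1.MinDeg.Defs

set_option autoImplicit false
set_option linter.unusedSectionVars false

/-!
# S2140, case A: definitions

For two distinct indices `i0`, `il` write `e0 = Pi.single i0 1` (a vector) and
`el = Pi.single il 1` (a functional).  A vector `a` is *mid-supported* if `a i0 = 0 = a il`.
`hel a b c = tv e0 (a + c • el) * tv b el = 1 + e0 aᵀ + b elᵀ + (c + a ⬝ᵥ b) e0 elᵀ` are the elements of
the "Heisenberg group" `E = Qc e0 * Qa el`.  `SRel K a b` says that some `hel a b c` lies in `K`.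
-/

namespace Cfsg.Agent.Helper1.MinDeg

open Matrix Cfsg.Agent.Helper14.AutPSL

variable {F : Type*} [Field F] {n : ℕ}

/-- mid-supported vectors -/
def IsMid (i0 il : Fin n) (a : Fin n → F) : Prop := a i0 = 0 ∧ a il = 0

theorem IsMid.zero (i0 il : Fin n) : IsMid i0 il (0 : Fin n → F) := ⟨rfl, rfl⟩

theorem IsMid.add {i0 il : Fin n} {a b : Fin n → F} (ha : IsMid i0 il a) (hb : IsMid i0 il b) :
    IsMid i0 il (a + b) := ⟨by rw [Pi.add_apply, ha.1, hb.1, add_zero], by rw [Pi.add_apply, ha.2, hb.2, add_zero]⟩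

theorem IsMid.neg {i0 il : Fin n} {a : Fin n → F} (ha : IsMid i0 il a) : IsMid i0 il (-a) :=
  ⟨by rw [Pi.neg_apply, ha.1, neg_zero], by rw [Pi.neg_apply, ha.2, neg_zero]⟩

theorem IsMid.smul {i0 il : Fin n} {a : Fin n → F} (ha : IsMid i0 il a) (c : F) : IsMid i0 il (c • a) :=
  ⟨by rw [Pi.smul_apply, ha.1, smul_zero], by rw [Pi.smul_apply, ha.2, smul_zero]⟩

theorem IsMid.single {i0 il k : Fin n} (h0 : k ≠ i0) (hl : k ≠ il) (c : F) :
    IsMid i0 il (Pi.single k c : Fin n → F) :=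
  ⟨by rw [Pi.single_apply, if_neg (Ne.symm h0)], by rw [Pi.single_apply, if_neg (Ne.symm hl)]⟩

theorem hel_aux1 {i0 il : Fin n} (h0l : i0 ≠ il) {a : Fin n → F} (ha : IsMid i0 il a) (c : F) :
    (a + c • (Pi.single il 1 : Fin n → F)) ⬝ᵥ (Pi.single i0 1 : Fin n → F) = 0 := by
  rw [dotProduct_single, mul_one, Pi.add_apply, Pi.smul_apply, ha.1, zero_add,
    Pi.single_eq_of_ne h0l, smul_zero]

theorem hel_aux2 {i0 il : Fin n} {b : Fin n → F} (hb : IsMid i0 il b) :
    (Pi.single il 1 : Fin n → F) ⬝ᵥ b = 0 := by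
  rw [single_dotProduct, one_mul, hb.2]

/-- the element `1 + e0 aᵀ + b elᵀ + (c + a ⬝ᵥ b) e0 elᵀ` of `Qc e0 * Qa el` -/
def hel (i0 il : Fin n) (h0l : i0 ≠ il) (a b : Fin n → F) (c : F) (ha : IsMid i0 il a)
    (hb : IsMid i0 il b) : SpecialLinearGroup (Fin n) F :=
  tv (Pi.single i0 1) (a + c • (Pi.single il 1 : Fin n → F)) (hel_aux1 h0l ha c) *
    tv b (Pi.single il 1) (hel_aux2 hb)

/-- the relation "`(a, b)` is the (mid part of) an element of `K ∩ E`" -/
def SRel (K : Subgroup (SpecialLinearGroup (Fin n) F)) (i0 il : Fin n) (h0l : i0 ≠ il)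
    (a b : Fin n → F) : Prop :=
  ∃ (ha : IsMid i0 il a) (hb : IsMid i0 il b) (c : F), hel i0 il h0l a b c ha hb ∈ K

end Cfsg.Agent.Helper1.MinDeg
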