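import Mathlib
import Cfsg.Agent.Helper1.MinDeg.Defs
import Cfsg.Agent.Helper1.MinDeg.CaseADefs
import Cfsg.Agent.Helper14.MinDegC2
import Cfsg.Agent.Helper14.MinDegM1
import Cfsg.Agent.Helper14.MinDegM2
import Cfsg.Agent.Helper33.MinDegP2
import Cfsg.Agent.Helper41.MinDegA2
import Cfsg.Agent.Helper5.MinDegA1
import Cfsg.Agent.Helper67.MinDegR1
import Cfsg.Agent.Helper69.MinDegE
import Cfsg.Agent.Helper70.MinDegA5
import Cfsg.Agent.Helper72.MinDegP1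
import Cfsg.Agent.Helper72.MinDegP3
import Cfsg.Agent.Helper74.MinDegM3
import Cfsg.Agent.Helper74.MinDegT
import Cfsg.Agent.Helper35.MinDegR2
import Cfsg.Agent.Helper88.MinDegB
import Cfsg.Agent.Helper48.MinDegM4
import Cfsg.Agent.Helper5.MinDegA3
import Cfsg.Agent.Helper5.MinDegA4

set_option autoImplicit false
set_option linter.unusedSectionVars false

/-!
# S2140: the pieces, collected under one namespace (proved by helper5, 14, 33, 41, 67, 69, 70, 72, 74, ...)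
-/

namespace Cfsg.Agent.Helper1.MinDegP

open Matrix Cfsg.Agent.Helper14.AutPSL Cfsg.Agent.Helper1.MinDeg

theorem card_add_mul_fixed {G Ω : Type*} [Group G] [Fintype Ω] [MulAction G Ω] (U : Subgroup G)
    [Finite U] (f : ℕ)
    (hf : ∀ u ∈ U, u ≠ 1 → Nat.card (MulAction.fixedBy Ω u) = f) :
    Fintype.card Ω + (Nat.card U - 1) * f =
      Nat.card (MulAction.orbitRel.Quotient U Ω) * Nat.card U :=
  Cfsg.Agent.Helper72.MinDeg.card_add_mul_fixed U f hf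

theorem inf_sup_inf_eq {G Ω : Type*} [Group G] [Fintype Ω] [MulAction G Ω] (U : Subgroup G)
    [Finite U] (hcomm : ∀ a ∈ U, ∀ b ∈ U, a * b = b * a) (f : ℕ)
    (hf : ∀ u ∈ U, u ≠ 1 → Nat.card (MulAction.fixedBy Ω u) = f)
    (hr : Nat.card (MulAction.orbitRel.Quotient U Ω) = f + 1)
    {ω ω' : Ω} (h : ∀ u ∈ U, u • ω ≠ ω') :
    (MulAction.stabilizer G ω ⊓ U) ⊔ (MulAction.stabilizer G ω' ⊓ U) = U :=
  Cfsg.Agent.Helper33.MinDeg.inf_sup_inf_eq U hcomm f hf hr h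

theorem card_le_mul_orbits {G Ω : Type*} [Group G] [Fintype Ω] [MulAction G Ω] (U : Subgroup G)
    [Finite U] (k : ℕ)
    (h : ∀ ω : Ω, Nat.card U ≤ k * Nat.card (MulAction.stabilizer G ω ⊓ U : Subgroup G)) :
    Fintype.card Ω ≤ k * Nat.card (MulAction.orbitRel.Quotient U Ω) ∧
      (Fintype.card Ω = k * Nat.card (MulAction.orbitRel.Quotient U Ω) →
        ∀ ω : Ω, k * Nat.card (MulAction.stabilizer G ω ⊓ U : Subgroup G) = Nat.card U) :=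
  Cfsg.Agent.Helper72.MinDeg.card_le_mul_orbits U k h

variable {F : Type*} [Field F] {n : ℕ}

theorem exists_mulVec_eq (hn : 2 ≤ n) {x y : Fin n → F} (hx : x ≠ 0) (hy : y ≠ 0) :
    ∃ g : SpecialLinearGroup (Fin n) F, g.1 *ᵥ x = y :=
  Cfsg.Agent.Helper74.MinDeg.exists_mulVec_eq hn hx hy

theorem map_conj_Qc2 (g : SpecialLinearGroup (Fin n) F) (x y : Fin n → F) :
    (Qc2 x y).map (MulAut.conj g).toMonoidHom = Qc2 (g.1 *ᵥ x) (g.1 *ᵥ y) :=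
  Cfsg.Agent.Helper14.MinDeg.map_conj_Qc2 g x y

theorem exists_Lx_conj (hn : 3 ≤ n) {x : Fin n → F} (hx : x ≠ 0) {φ ψ : Fin n → F} (hφ : φ ≠ 0)
    (hψ : ψ ≠ 0) (h : φ ⬝ᵥ x = 0) (h' : ψ ⬝ᵥ x = 0) :
    ∃ g ∈ Lx x, g * tv x φ h * g⁻¹ = tv x ψ h' :=
  Cfsg.Agent.Helper14.MinDeg.exists_Lx_conj hn hx hφ hψ h h'

theorem card_Qc [Fintype F] (hn : 1 ≤ n) {x : Fin n → F} (hx : x ≠ 0) :
    Nat.card (Qc x) = Fintype.card F ^ (n - 1) :=
  Cfsg.Agent.Helper14.MinDeg.card_Qc hn hx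

theorem card_le_of_dichotomy [Fintype F] (hn : 3 ≤ n) {x : Fin n → F} (hx : x ≠ 0)
    (A : Subgroup (SpecialLinearGroup (Fin n) F)) (hA : A ≤ Qc x)
    (hdich : ∀ g ∈ Lx x, A.map (MulAut.conj g).toMonoidHom = A ∨
      A ⊔ A.map (MulAut.conj g).toMonoidHom = Qc x) :
    A = ⊥ ∨ A = Qc x ∨ Fintype.card F ^ (n - 1) ≤ Fintype.card F * Nat.card A :=
  Cfsg.Agent.Helper74.MinDeg.card_le_of_dichotomy hn hx A hA hdich

theorem exists_invariant_subspace (hn : 2 ≤ n) (H : Subgroup (SpecialLinearGroup (Fin n) F))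
    (hH : H ≠ ⊤) {x : Fin n → F} (hx : x ≠ 0) (hU : Qc x ≤ H) :
    ∃ W : Submodule F (Fin n → F), W ≠ ⊥ ∧ W ≠ ⊤ ∧ ∀ g ∈ H, ∀ w ∈ W, g.1 *ᵥ w ∈ W :=
  Cfsg.Agent.Helper67.MinDeg.exists_invariant_subspace hn H hH hx hU

section caseA

variable [Fintype F]

theorem SRel_exists (K : Subgroup (SpecialLinearGroup (Fin n) F)) (hn : 3 ≤ n)
    (hidx : K.index = Fintype.card F ^ (n - 1))
    (hK : ∀ x : Fin n → F, x ≠ 0 → K ⊓ Qc x = ⊥) (i0 il : Fin n) (h0l : i0 ≠ il)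
    {a : Fin n → F} (ha : IsMid i0 il a) : ∃ b, SRel K i0 il h0l a b :=
  Cfsg.Agent.Helper5.MinDeg.SRel_exists K hn hidx hK i0 il h0l ha

theorem SRel_props (K : Subgroup (SpecialLinearGroup (Fin n) F))
    (hK : ∀ x : Fin n → F, x ≠ 0 → K ⊓ Qc x = ⊥) (i0 il : Fin n) (h0l : i0 ≠ il) :
    (∀ a b b', SRel K i0 il h0l a b → SRel K i0 il h0l a b' → b = b') ∧
    (∀ a, SRel K i0 il h0l a 0 → a = 0) ∧
    (∀ a b a' b', SRel K i0 il h0l a b → SRel K i0 il h0l a' b' →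
      SRel K i0 il h0l (a + a') (b + b')) ∧
    (∀ a b, SRel K i0 il h0l a b → SRel K i0 il h0l (-a) (-b)) ∧
    (∀ a b a' b', SRel K i0 il h0l a b → SRel K i0 il h0l a' b' → a ⬝ᵥ b' = a' ⬝ᵥ b) ∧
    ((2 : F) = 0 → ∀ a b, SRel K i0 il h0l a b → a ⬝ᵥ b = 0) :=
  Cfsg.Agent.Helper41.MinDeg.SRel_props K hK i0 il h0l

theorem no_SRel (hn : 3 ≤ n) (hex : ¬ (n = 4 ∧ Fintype.card F = 2)) (i0 il : Fin n) (h0l : i0 ≠ il)
    (S : (Fin n → F) → (Fin n → F) → Prop)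
    (hmid : ∀ a b, S a b → IsMid i0 il a ∧ IsMid i0 il b)
    (hex' : ∀ a, IsMid i0 il a → ∃ b, S a b)
    (huniq : ∀ a b b', S a b → S a b' → b = b')
    (hinj : ∀ a, S a 0 → a = 0)
    (hadd : ∀ a b a' b', S a b → S a' b' → S (a + a') (b + b'))
    (hneg : ∀ a b, S a b → S (-a) (-b))
    (hsym : ∀ a b a' b', S a b → S a' b' → a ⬝ᵥ b' = a' ⬝ᵥ b)
    (halt : (2 : F) = 0 → ∀ a b, S a b → a ⬝ᵥ b = 0)
    (hel : ∀ i j : Fin n, i ≠ j → i ≠ i0 → i ≠ il → j ≠ i0 → j ≠ il → ∀ (s : F) (a b : Fin n → F),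
      S a b → S (a - (s * a i) • Pi.single j 1) (b + (s * b j) • Pi.single i 1))
    (hdiag : ∀ d : Fin n → F, ∏ k, d k = 1 → ∀ a b : Fin n → F,
      S a b → S (fun k => d i0 * a k / d k) (fun k => d k * b k / d il)) :
    False :=
  Cfsg.Agent.Helper70.MinDeg.no_SRel hn hex i0 il h0l S hmid hex' huniq hinj hadd hneg hsym halt hel
    hdiag

end caseA

theorem exists_index_eq [Fintype F] (hn : 2 ≤ n) :
    ∃ H : Subgroup (ProjectiveSpecialLinearGroup (Fin n) F),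
      H.index = ∑ i ∈ Finset.range n, Fintype.card F ^ i :=
  Cfsg.Agent.Helper69.MinDeg.exists_index_eq hn

/-! the remaining pieces -/

theorem eq_Qc2_of_dichotomy [Fintype F] (hn : 3 ≤ n) {x : Fin n → F} (hx : x ≠ 0)
    (A : Subgroup (SpecialLinearGroup (Fin n) F)) (hA : A ≤ Qc x)
    (hdich : ∀ g ∈ Lx x, A.map (MulAut.conj g).toMonoidHom = A ∨
      A ⊔ A.map (MulAut.conj g).toMonoidHom = Qc x)
    (hcard : Fintype.card F * Nat.card A = Fintype.card F ^ (n - 1)) :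
    ∃ y : Fin n → F, (∀ c : F, y ≠ c • x) ∧ A = Qc2 x y :=
  Cfsg.Agent.Helper48.MinDeg.eq_Qc2_of_dichotomy hn hx A hA hdich hcard

theorem index_ge_of_invariant [Fintype F] (hn : 2 ≤ n) (H : Subgroup (SpecialLinearGroup (Fin n) F))
    (W : Submodule F (Fin n → F)) (hW0 : W ≠ ⊥) (hW1 : W ≠ ⊤)
    (hinv : ∀ g ∈ H, ∀ w ∈ W, g.1 *ᵥ w ∈ W) :
    ∑ i ∈ Finset.range n, Fintype.card F ^ i ≤ H.index :=
  Cfsg.Agent.Helper35.MinDeg.index_ge_of_invariant hn H W hW0 hW1 hinv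

theorem caseB_false (hn : 3 ≤ n) (K : Subgroup (SpecialLinearGroup (Fin n) F))
    (h : ∀ x : Fin n → F, x ≠ 0 → ∃ y : Fin n → F, (∀ c : F, y ≠ c • x) ∧ K ⊓ Qc x = Qc2 x y) :
    False :=
  Cfsg.Agent.Helper88.MinDeg.caseB_false hn K h

theorem SRel_elem [Fintype F] (K : Subgroup (SpecialLinearGroup (Fin n) F)) (hn : 3 ≤ n)
    (hidx : K.index = Fintype.card F ^ (n - 1))
    (hK : ∀ x : Fin n → F, x ≠ 0 → K ⊓ Qc x = ⊥) (i0 il : Fin n) (h0l : i0 ≠ il)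
    {i j : Fin n} (hij : i ≠ j) (hi0 : i ≠ i0) (hil : i ≠ il) (hj0 : j ≠ i0) (hjl : j ≠ il)
    (s : F) {a b : Fin n → F} (h : SRel K i0 il h0l a b) :
    SRel K i0 il h0l (a - (s * a i) • Pi.single j 1) (b + (s * b j) • Pi.single i 1) :=
  Cfsg.Agent.Helper5.MinDeg.SRel_elem K hn hidx hK i0 il h0l hij hi0 hil hj0 hjl s h

theorem SRel_diag [Fintype F] (K : Subgroup (SpecialLinearGroup (Fin n) F)) (hn : 3 ≤ n)
    (hidx : K.index = Fintype.card F ^ (n - 1))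
    (hK : ∀ x : Fin n → F, x ≠ 0 → K ⊓ Qc x = ⊥) (i0 il : Fin n) (h0l : i0 ≠ il)
    (d : Fin n → F) (hd : ∏ k, d k = 1)
    {a b : Fin n → F} (h : SRel K i0 il h0l a b) :
    SRel K i0 il h0l (fun k => d i0 * a k / d k) (fun k => d k * b k / d il) :=
  Cfsg.Agent.Helper5.MinDeg.SRel_diag K hn hidx hK i0 il h0l d hd h

end Cfsg.Agent.Helper1.MinDegP
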