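import Mathlib
import Cfsg.Agent.Helper1.MinDeg.Pieces

set_option autoImplicit false
set_option linter.unusedSectionVars false
set_option linter.unusedVariables false

/-!
# S2140: assembly of the lower bound
-/

namespace Cfsg.Agent.Helper1.MinDeg

open Matrix Cfsg.Agent.Helper14.AutPSL Cfsg.Agent.Helper1.MinDegP

variable {F : Type*} [Field F] {n : ℕ}

/-! ### small lemmas -/

theorem map_conj_Qc (g : SpecialLinearGroup (Fin n) F) (x : Fin n → F) :
    (Qc x).map (MulAut.conj g).toMonoidHom = Qc (g.1 *ᵥ x) := by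
  ext u
  constructor
  · rintro ⟨v, hv, rfl⟩
    exact conj_mem_Qc hv g
  · intro hu
    refine ⟨g⁻¹ * u * g, ?_, ?_⟩
    · have h1 := conj_mem_Qc hu g⁻¹
      have h2 : (g⁻¹).1 *ᵥ (g.1 *ᵥ x) = x := by
        have : (g⁻¹ * g).1 = (g⁻¹).1 * g.1 := rfl
        rw [mulVec_mulVec, ← this, inv_mul_cancel]
        exact one_mulVec x
      rw [h2, inv_inv] at h1
      exact h1
    · show g * (g⁻¹ * u * g) * g⁻¹ = u
      group

theorem map_conj_Qc_of_fix {g : SpecialLinearGroup (Fin n) F} {x : Fin n → F}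
    (hg : g.1 *ᵥ x = x) : (Qc x).map (MulAut.conj g).toMonoidHom = Qc x := by
  rw [map_conj_Qc, hg]

theorem geom_le_two_mul (q k : ℕ) (hq : 2 ≤ q) :
    ∑ i ∈ Finset.range (k + 1), q ^ i ≤ 2 * q ^ k - 1 := by
  rw [Finset.sum_range_succ]
  have h := Nat.geomSum_lt (m := q) (n := k) (s := Finset.range k) hq
    (fun i hi => Finset.mem_range.mp hi)
  omega

theorem geom_succ (q k : ℕ) :
    ∑ i ∈ Finset.range (k + 1), q ^ i = 1 + q * ∑ i ∈ Finset.range k, q ^ i := by
  rw [Finset.sum_range_succ', Finset.mul_sum, add_comm]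
  congr 1
  apply Finset.sum_congr rfl
  intro i _
  rw [pow_succ, mul_comm]

theorem pow_eq_pred_mul_geom (p k : ℕ) :
    (p + 1) ^ k = p * ∑ i ∈ Finset.range k, (p + 1) ^ i + 1 := by
  have := geom_sum_mul_add (p : ℕ) k
  rw [← this, mul_comm]

/-! ### case A from its pieces -/

theorem caseA_false [Fintype F] (hn : 3 ≤ n) (hex : ¬ (n = 4 ∧ Fintype.card F = 2))
    (K : Subgroup (SpecialLinearGroup (Fin n) F))
    (hidx : K.index = Fintype.card F ^ (n - 1))
    (hK : ∀ x : Fin n → F, x ≠ 0 → K ⊓ Qc x = ⊥) : False := by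
  have h0l : (⟨0, by omega⟩ : Fin n) ≠ ⟨n - 1, by omega⟩ := by
    intro h
    have := congrArg Fin.val h
    simp only at this
    omega
  obtain ⟨h1, h2, h3, h4, h5, h6⟩ := SRel_props K hK ⟨0, by omega⟩ ⟨n - 1, by omega⟩ h0l
  refine no_SRel hn hex ⟨0, by omega⟩ ⟨n - 1, by omega⟩ h0l (SRel K _ _ h0l) ?_ ?_ h1 h2 h3 h4 h5 h6 ?_ ?_
  · rintro a b ⟨ha, hb, -, -⟩
    exact ⟨ha, hb⟩
  · intro a ha
    exact SRel_exists K hn hidx hK _ _ h0l ha
  · intro i j hij hi0 hil hj0 hjl s a b h
    exact SRel_elem K hn hidx hK _ _ h0l hij hi0 hil hj0 hjl s h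
  · intro d hd a b h
    exact SRel_diag K hn hidx hK _ _ h0l d hd h

/-! ### stabilisers in `Qc x` -/

section action

variable {Ω : Type*} [MulAction (SpecialLinearGroup (Fin n) F) Ω]

/-- the stabiliser in `Qc x` is constant along `Qc x`-orbits -/
theorem stab_inf_Qc_smul {x : Fin n → F} {u : SpecialLinearGroup (Fin n) F} (hu : u ∈ Qc x) (ω : Ω) :
    MulAction.stabilizer (SpecialLinearGroup (Fin n) F) (u • ω) ⊓ Qc x =
      MulAction.stabilizer (SpecialLinearGroup (Fin n) F) ω ⊓ Qc x := by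
  ext v
  simp only [Subgroup.mem_inf, MulAction.mem_stabilizer_iff]
  constructor
  · rintro ⟨h1, h2⟩
    refine ⟨?_, h2⟩
    have : v * u = u * v := Qc_comm h2 hu
    rw [← mul_smul, this, mul_smul] at h1
    exact smul_left_cancel u h1
  · rintro ⟨h1, h2⟩
    refine ⟨?_, h2⟩
    have : v * u = u * v := Qc_comm h2 hu
    rw [← mul_smul, this, mul_smul, h1]

/-- conjugating the stabiliser in `Qc x` by an element fixing `x` -/
theorem map_conj_stab_inf_Qc {x : Fin n → F} {g : SpecialLinearGroup (Fin n) F}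
    (hg : g.1 *ᵥ x = x) (ω : Ω) :
    (MulAction.stabilizer (SpecialLinearGroup (Fin n) F) ω ⊓ Qc x).map (MulAut.conj g).toMonoidHom =
      MulAction.stabilizer (SpecialLinearGroup (Fin n) F) (g • ω) ⊓ Qc x := by
  rw [Subgroup.map_inf_eq _ _ _ (MulAut.conj g).injective, map_conj_Qc_of_fix hg,
    MulAction.stabilizer_smul_eq_stabilizer_map_conj]

/-- general conjugation -/
theorem map_conj_stab_inf_Qc' (x : Fin n → F) (g : SpecialLinearGroup (Fin n) F) (ω : Ω) :
    (MulAction.stabilizer (SpecialLinearGroup (Fin n) F) ω ⊓ Qc x).map (MulAut.conj g).toMonoidHom =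
      MulAction.stabilizer (SpecialLinearGroup (Fin n) F) (g • ω) ⊓ Qc (g.1 *ᵥ x) := by
  rw [Subgroup.map_inf_eq _ _ _ (MulAut.conj g).injective, map_conj_Qc,
    MulAction.stabilizer_smul_eq_stabilizer_map_conj]

end action

/-! ### the core theorem -/

section core

variable [Fintype F] {Ω : Type*} [Fintype Ω] [MulAction (SpecialLinearGroup (Fin n) F) Ω]
  [MulAction.IsPretransitive (SpecialLinearGroup (Fin n) F) Ω]

open scoped Pointwise in
theorem card_fixedBy_conj (g u : SpecialLinearGroup (Fin n) F) :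
    Nat.card (MulAction.fixedBy Ω (g * u * g⁻¹)) = Nat.card (MulAction.fixedBy Ω u) := by
  rw [← MulAction.smul_fixedBy]
  have : g • MulAction.fixedBy Ω u = (MulAction.toPerm g : Equiv.Perm Ω) '' MulAction.fixedBy Ω u := by
    ext a
    simp [Set.mem_smul_set]
  rw [this]
  exact (Nat.card_congr (Equiv.image (MulAction.toPerm g : Equiv.Perm Ω) _)).symm

theorem card_ge_of_transitive (hn : 3 ≤ n) (hex : ¬ (n = 4 ∧ Fintype.card F = 2))
    (hm : 2 ≤ Fintype.card Ω) :
    ∑ i ∈ Finset.range n, Fintype.card F ^ i ≤ Fintype.card Ω := by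
  classical
  by_contra hlt
  rw [not_le] at hlt
  have hq2 : 2 ≤ Fintype.card F := Fintype.one_lt_card
  -- stabilisers
  have hidx : ∀ ω : Ω, (MulAction.stabilizer (SpecialLinearGroup (Fin n) F) ω).index =
      Fintype.card Ω := fun ω => by
    rw [MulAction.index_stabilizer_of_transitive, Nat.card_eq_fintype_card]
  have hne_top : ∀ ω : Ω, MulAction.stabilizer (SpecialLinearGroup (Fin n) F) ω ≠ ⊤ := fun ω h => by
    have := hidx ω
    rw [h, Subgroup.index_top] at this
    omega
  -- no `Qc y` inside a stabiliser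
  have hnofix : ∀ y : Fin n → F, y ≠ 0 → ∀ ω : Ω,
      ¬ Qc y ≤ MulAction.stabilizer (SpecialLinearGroup (Fin n) F) ω := by
    intro y hy ω hle
    obtain ⟨W, hW0, hW1, hinv⟩ := exists_invariant_subspace (by omega) _ (hne_top ω) hy hle
    have := index_ge_of_invariant (by omega) _ W hW0 hW1 hinv
    rw [hidx ω] at this
    omega
  -- the centre `x` and a reference transvection
  obtain ⟨x, hx, φ0, hφ0, h0⟩ : ∃ x : Fin n → F, x ≠ 0 ∧ ∃ φ0 : Fin n → F, φ0 ≠ 0 ∧ φ0 ⬝ᵥ x = 0 := by
    refine ⟨Pi.single ⟨0, by omega⟩ 1, ?_, Pi.single ⟨1, by omega⟩ 1, ?_, ?_⟩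
    · intro h
      have := congrFun h ⟨0, by omega⟩
      simp at this
    · intro h
      have := congrFun h ⟨1, by omega⟩
      simp at this
    · rw [dotProduct_single, mul_one, Pi.single_apply, if_neg]
      intro h
      have := congrArg Fin.val h
      simp at this
  have hcardU : Nat.card (Qc x) = Fintype.card F ^ (n - 1) := card_Qc (by omega) hx
  haveI : Finite (Qc x) := Nat.finite_of_card_ne_zero (by rw [hcardU]; positivity)
  have hf : ∀ u ∈ Qc x, u ≠ 1 → Nat.card (MulAction.fixedBy Ω u) =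
      Nat.card (MulAction.fixedBy Ω (tv x φ0 h0)) := by
    rintro u ⟨φ, h, rfl⟩ hu1
    have hφ : φ ≠ 0 := by
      rintro rfl
      exact hu1 (tv_zero_right x)
    obtain ⟨g, hg, hconj⟩ := exists_Lx_conj hn hx hφ0 hφ h0 h
    rw [← hconj, card_fixedBy_conj]
  set f := Nat.card (MulAction.fixedBy Ω (tv x φ0 h0)) with hfdef
  set r := Nat.card (MulAction.orbitRel.Quotient (Qc x) Ω) with hrdef
  have hP1 := card_add_mul_fixed (Qc x) f hf
  rw [hcardU, ← hrdef] at hP1
  set Q := Fintype.card F ^ (n - 1) with hQdef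
  have hQ2 : 2 ≤ Q := by
    have : Fintype.card F ^ 1 ≤ Fintype.card F ^ (n - 1) :=
      Nat.pow_le_pow_right (by omega) (by omega)
    rw [pow_one] at this
    omega
  obtain ⟨Q', hQ'⟩ : ∃ Q', Q = Q' + 1 := ⟨Q - 1, by omega⟩
  have hQ'1 : 1 ≤ Q' := by omega
  rw [hQ', Nat.add_sub_cancel] at hP1
  -- hP1 : card Ω + Q' * f = r * (Q' + 1)
  have hf_le : f ≤ Fintype.card Ω := by
    rw [hfdef, ← Nat.card_eq_fintype_card]
    exact Nat.card_le_card_of_injective _ Subtype.val_injective
  -- `f < r`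
  have hfr : f + 1 ≤ r := by
    by_contra hcon
    have hrf : r ≤ f := by omega
    have h1 : r * Q' ≤ f * Q' := Nat.mul_le_mul_right _ hrf
    have hmf : Fintype.card Ω = f := by
      have h2 : r * (Q' + 1) = r * Q' + r := by ring
      have h3 : Q' * f = f * Q' := mul_comm _ _
      omega
    -- every element of `Qc x` fixes everything
    obtain ⟨ω⟩ : Nonempty Ω := Fintype.card_pos_iff.mp (by omega)
    apply hnofix x hx ω
    intro u hu
    by_cases hu1 : u = 1
    · rw [hu1]; exact Subgroup.one_mem _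
    · have h4 := hf u hu hu1
      rw [← hmf, Nat.card_coe_set_eq, ← Nat.card_eq_fintype_card] at h4
      have h5 := (Set.eq_univ_iff_ncard _).mpr h4
      rw [MulAction.mem_stabilizer_iff]
      have : ω ∈ MulAction.fixedBy Ω u := by rw [h5]; exact Set.mem_univ _
      exact this
  have hrf : r = f + 1 := by
    by_contra hcon
    have h2 : f + 2 ≤ r := by omega
    have h1 : (f + 2) * Q' ≤ r * Q' := Nat.mul_le_mul_right _ h2
    have h3 : r * (Q' + 1) = r * Q' + r := by ring
    have h4 : (f + 2) * Q' = f * Q' + 2 * Q' := by ring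
    have h5 : Q' * f = f * Q' := mul_comm _ _
    have hN := geom_le_two_mul (Fintype.card F) (n - 1) hq2
    rw [Nat.sub_add_cancel (by omega : 1 ≤ n), ← hQdef] at hN
    omega
  have hmfQ : Fintype.card Ω = f + Q := by
    rw [hrf] at hP1
    have h3 : (f + 1) * (Q' + 1) = f * Q' + f + Q' + 1 := by ring
    have h5 : Q' * f = f * Q' := mul_comm _ _
    omega
  -- pairwise generation
  have hP2 : ∀ ω ω' : Ω, (∀ u ∈ Qc x, u • ω ≠ ω') →
      (MulAction.stabilizer (SpecialLinearGroup (Fin n) F) ω ⊓ Qc x) ⊔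
        (MulAction.stabilizer (SpecialLinearGroup (Fin n) F) ω' ⊓ Qc x) = Qc x := by
    intro ω ω' h
    exact inf_sup_inf_eq (Qc x) (fun a ha b hb => Qc_comm ha hb) f hf (by rw [← hrdef, hrf]) h
  -- the dichotomy
  have hdich : ∀ ω : Ω, ∀ g ∈ Lx x,
      (MulAction.stabilizer (SpecialLinearGroup (Fin n) F) ω ⊓ Qc x).map (MulAut.conj g).toMonoidHom =
        MulAction.stabilizer (SpecialLinearGroup (Fin n) F) ω ⊓ Qc x ∨
      (MulAction.stabilizer (SpecialLinearGroup (Fin n) F) ω ⊓ Qc x) ⊔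
        (MulAction.stabilizer (SpecialLinearGroup (Fin n) F) ω ⊓ Qc x).map (MulAut.conj g).toMonoidHom =
        Qc x := by
    intro ω g hg
    rw [map_conj_stab_inf_Qc (Lx_mulVec hg)]
    by_cases h : ∃ u ∈ Qc x, u • ω = g • ω
    · obtain ⟨u, hu, hu'⟩ := h
      left
      rw [← hu', stab_inf_Qc_smul hu]
    · right
      push Not at h
      exact hP2 ω (g • ω) h
  -- the trichotomy
  have htri : ∀ ω : Ω, MulAction.stabilizer (SpecialLinearGroup (Fin n) F) ω ⊓ Qc x = ⊥ ∨
      Q ≤ Fintype.card F *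
        Nat.card (MulAction.stabilizer (SpecialLinearGroup (Fin n) F) ω ⊓ Qc x : Subgroup _) := by
    intro ω
    rcases card_le_of_dichotomy hn hx _ inf_le_right (hdich ω) with h | h | h
    · exact Or.inl h
    · exfalso
      apply hnofix x hx ω
      rw [← h]
      exact inf_le_left
    · exact Or.inr h
  by_cases hA : ∃ ω0 : Ω, MulAction.stabilizer (SpecialLinearGroup (Fin n) F) ω0 ⊓ Qc x = ⊥
  · -- case A : `Qc x` is regular
    obtain ⟨ω0, hω0⟩ := hA
    have htrans : ∀ ω' : Ω, ∃ u ∈ Qc x, u • ω0 = ω' := by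
      intro ω'
      by_contra hcon
      push Not at hcon
      have := hP2 ω0 ω' hcon
      rw [hω0, bot_sup_eq] at this
      apply hnofix x hx ω'
      rw [← this]
      exact inf_le_left
    have hr1 : r = 1 := by
      rw [hrdef, Nat.card_eq_one_iff_unique]
      refine ⟨⟨fun a b => ?_⟩, ⟨Quotient.mk'' ω0⟩⟩
      induction a using Quotient.inductionOn' with | _ a => ?_
      induction b using Quotient.inductionOn' with | _ b => ?_
      apply Quotient.sound'
      obtain ⟨u, hu, rfl⟩ := htrans a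
      obtain ⟨v, hv, rfl⟩ := htrans b
      show u • ω0 ∈ MulAction.orbit (Qc x) (v • ω0)
      refine ⟨⟨u * v⁻¹, Subgroup.mul_mem _ hu (Subgroup.inv_mem _ hv)⟩, ?_⟩
      show (u * v⁻¹) • v • ω0 = u • ω0
      rw [← mul_smul, inv_mul_cancel_right]
    have hf0 : f = 0 := by omega
    have hmQ : Fintype.card Ω = Q := by omega
    apply caseA_false hn hex (MulAction.stabilizer (SpecialLinearGroup (Fin n) F) ω0)
      (by rw [hidx, hmQ])
    intro y hy
    rw [eq_bot_iff]
    intro u hu
    rw [Subgroup.mem_bot]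
    by_contra hu1
    obtain ⟨g, hg⟩ := exists_mulVec_eq (by omega : 2 ≤ n) hy hx
    have hv : g * u * g⁻¹ ∈ Qc x := by
      have := conj_mem_Qc hu.2 g
      rwa [hg] at this
    have hv1 : g * u * g⁻¹ ≠ 1 := by
      intro h
      apply hu1
      have : u = g⁻¹ * (g * u * g⁻¹) * g := by group
      rw [this, h]
      group
    have hcard := hf _ hv hv1
    rw [hf0, card_fixedBy_conj] at hcard
    have : (⟨ω0, hu.1⟩ : MulAction.fixedBy Ω u) ∈ (Set.univ : Set (MulAction.fixedBy Ω u)) :=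
      Set.mem_univ _
    haveI : Finite (MulAction.fixedBy Ω u) := Subtype.finite
    have hempty := (Nat.card_eq_zero.mp hcard).resolve_right (not_infinite_iff_finite.mpr inferInstance)
    exact hempty.false ⟨ω0, hu.1⟩
  · -- case B
    push Not at hA
    have htri' : ∀ ω : Ω, Nat.card (Qc x) ≤ Fintype.card F *
        Nat.card (MulAction.stabilizer (SpecialLinearGroup (Fin n) F) ω ⊓ Qc x : Subgroup _) := by
      intro ω
      rw [hcardU]
      exact (htri ω).resolve_left (hA ω)
    obtain ⟨hle, heq⟩ := card_le_mul_orbits (Qc x) (Fintype.card F) htri'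
    rw [← hrdef, hrf] at hle heq
    -- arithmetic
    obtain ⟨p, hp⟩ : ∃ p, Fintype.card F = p + 1 := ⟨Fintype.card F - 1, by omega⟩
    have hp1 : 1 ≤ p := by omega
    obtain ⟨k, hk⟩ : ∃ k, n = k + 1 := ⟨n - 1, by omega⟩
    have hN := geom_succ (Fintype.card F) k
    have hQ'' := pow_eq_pred_mul_geom p k
    rw [← hk] at hN
    rw [← hp] at hQ''
    have hQk : Q = Fintype.card F ^ k := by rw [hQdef, hk, Nat.add_sub_cancel]
    rw [← hQk] at hQ''
    set N' := ∑ i ∈ Finset.range k, Fintype.card F ^ i with hN'def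
    rw [hN, hp] at hlt
    rw [hp] at hle
    have e1 : (p + 1) * N' = p * N' + N' := by ring
    have e2 : (p + 1) * (f + 1) = p * f + p + f + 1 := by ring
    have hN'le : N' ≤ f + 1 := by
      have : p * N' ≤ p * (f + 1) := by
        have e3 : p * (f + 1) = p * f + p := by ring
        omega
      exact Nat.le_of_mul_le_mul_left this (by omega)
    have hN'eq : N' = f + 1 := by omega
    have hmeq : Fintype.card Ω = Fintype.card F * (f + 1) := by
      rw [hp, e2, hmfQ, hQ'', hN'eq]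
      ring
    have hall := heq hmeq
    obtain ⟨ω0⟩ : Nonempty Ω := Fintype.card_pos_iff.mp (by omega)
    apply caseB_false hn (MulAction.stabilizer (SpecialLinearGroup (Fin n) F) ω0)
    intro x' hx'
    obtain ⟨g, hg⟩ := exists_mulVec_eq (by omega : 2 ≤ n) hx hx'
    obtain ⟨y, hy, hAy⟩ := eq_Qc2_of_dichotomy hn hx _ inf_le_right (hdich (g⁻¹ • ω0))
      (by rw [hall, hcardU])
    refine ⟨g.1 *ᵥ y, ?_, ?_⟩
    · intro c hc
      apply hy c
      have h1 : g.1 *ᵥ y = g.1 *ᵥ (c • x) := by rw [mulVec_smul, hg, hc]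
      have h2 : (g⁻¹).1 *ᵥ (g.1 *ᵥ y) = (g⁻¹).1 *ᵥ (g.1 *ᵥ (c • x)) := by rw [h1]
      have h3 : ∀ v : Fin n → F, (g⁻¹).1 *ᵥ (g.1 *ᵥ v) = v := by
        intro v
        have : (g⁻¹ * g).1 = (g⁻¹).1 * g.1 := rfl
        rw [mulVec_mulVec, ← this, inv_mul_cancel]
        exact one_mulVec v
      rwa [h3, h3] at h2
    · have := map_conj_stab_inf_Qc' x g (g⁻¹ • ω0)
      rw [smul_inv_smul, hg, hAy, map_conj_Qc2, hg] at this
      exact this.symm

end core

/-- every proper subgroup of `SL_n(q)`, `n ≥ 3`, `(n,q) ≠ (4,2)`, has index at least the number of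
points of the projective space -/
theorem index_ge [Fintype F] (hn : 3 ≤ n) (hex : ¬ (n = 4 ∧ Fintype.card F = 2))
    (H : Subgroup (SpecialLinearGroup (Fin n) F)) (hH : H ≠ ⊤) :
    ∑ i ∈ Finset.range n, Fintype.card F ^ i ≤ H.index := by
  classical
  haveI : Fintype (SpecialLinearGroup (Fin n) F ⧸ H) := Fintype.ofFinite _
  have hidx : H.index = Fintype.card (SpecialLinearGroup (Fin n) F ⧸ H) := by
    rw [Subgroup.index, Nat.card_eq_fintype_card]
  have h0 : H.index ≠ 0 := Subgroup.index_ne_zero_of_finite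
  have h1 : H.index ≠ 1 := fun h => hH (Subgroup.index_eq_one.mp h)
  rw [hidx]
  exact card_ge_of_transitive hn hex (by omega)

/-- the same for `PSL_n(q)` -/
theorem index_ge_psl [Fintype F] (hn : 3 ≤ n) (hex : ¬ (n = 4 ∧ Fintype.card F = 2))
    (H : Subgroup (ProjectiveSpecialLinearGroup (Fin n) F)) (hH : H ≠ ⊤) :
    ∑ i ∈ Finset.range n, Fintype.card F ^ i ≤ H.index := by
  have hsurj : Function.Surjective
      (QuotientGroup.mk' (Subgroup.center (SpecialLinearGroup (Fin n) F))) :=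
    QuotientGroup.mk'_surjective _
  have hidx := Subgroup.index_comap_of_surjective H hsurj
  rw [← hidx]
  apply index_ge hn hex
  intro h
  apply hH
  rw [← Subgroup.index_eq_one, ← hidx, h, Subgroup.index_top]

end Cfsg.Agent.Helper1.MinDeg
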